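import Groth.Agent.Lib.Fitting.More
import Mathlib.RingTheory.Localization.Away.Basic
import Mathlib.Algebra.Module.LocalizedModule.Basic
import Mathlib.RingTheory.Localization.Module
import Mathlib.LinearAlgebra.Matrix.Block

/-!
# Fitting ideals and local generation
-/

universe u v w

open Matrix TensorProduct

namespace Groth.Agent.FittingLib

variable {R : Type u} [CommRing R] {M : Type v} [AddCommGroup M] [Module R M]

/-- Coefficient matrix for `g` followed by a generating tuple `x` with `v • x ⊆ span g`. -/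
noncomputable def mixMatrix {k n : ℕ} (T : Matrix (Fin k) (Fin k) R) (b : Fin n → Fin k → R) (v : R) :
    Matrix (Fin k ⊕ Fin n) (Fin k ⊕ Fin n) R :=
  Matrix.fromBlocks T 0 (Matrix.of fun j i => -b j i) (Matrix.diagonal fun _ => v)

theorem det_mixMatrix {k n : ℕ} (T : Matrix (Fin k) (Fin k) R) (b : Fin n → Fin k → R) (v : R) :
    (mixMatrix T b v).det = T.det * v ^ n := by
  rw [mixMatrix, Matrix.det_fromBlocks_zero₁₂]
  simp

theorem mixMatrix_row_mem_rel {k n : ℕ} {g : Fin k → M} {x : Fin n → M} {b : Fin n → Fin k → R} {v : R}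
    (hb : ∀ j, ∑ i, b j i • g i = v • x j) (T : Matrix (Fin k) (Fin k) R) (j : Fin n) :
    mixMatrix T b v (Sum.inr j) ∈ rel (R := R) (Sum.elim g x) := by
  rw [mem_rel, Fintype.sum_sum_type]
  simp only [mixMatrix, Matrix.fromBlocks_apply₂₁, Matrix.fromBlocks_apply₂₂, Matrix.of_apply,
    Sum.elim_inl, Sum.elim_inr, neg_smul, Finset.sum_neg_distrib, hb]
  simp [Matrix.diagonal_apply, ite_smul]

theorem span_sumElim {k n : ℕ} (g : Fin k → M) {x : Fin n → M}
    (hx : Submodule.span R (Set.range x) = ⊤) :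
    Submodule.span R (Set.range (Sum.elim g x)) = ⊤ := by
  rw [eq_top_iff, ← hx]
  exact Submodule.span_mono (by rintro _ ⟨i, rfl⟩; exact ⟨Sum.inr i, rfl⟩)

/-- If `v • M` lies in the span of `k` elements then a power of `v` is in `Fit_k`. -/
theorem pow_mem_ideal {k n : ℕ} (g : Fin k → M) {x : Fin n → M}
    (hx : Submodule.span R (Set.range x) = ⊤) {v : R}
    (hv : ∀ y : M, v • y ∈ Submodule.span R (Set.range g)) : v ^ n ∈ Fitt.ideal R M k := by
  classical
  choose b hb using fun j => (Submodule.mem_span_range_iff_exists_fun R).1 (hv (x j))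
  rw [ideal_eq_J _ (span_sumElim g hx)]
  have : v ^ n = (mixMatrix (1 : Matrix (Fin k) (Fin k) R) b v).det := by
    rw [det_mixMatrix, Matrix.det_one, one_mul]
  rw [this]
  refine det_mem_J (S := Finset.univ.image Sum.inl) (Finset.card_image_le.trans (by simp)) fun i hi => ?_
  rcases i with i | j
  · exact absurd (Finset.mem_image_of_mem _ (Finset.mem_univ i)) hi
  · exact mixMatrix_row_mem_rel hb 1 j

/-- If `Fit_(k-1) = 0` then relations among `k` elements spanning `v • M` are killed by a power of `v`. -/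
theorem coeff_mul_pow_eq_zero {k n : ℕ} (g : Fin k → M) {x : Fin n → M}
    (hx : Submodule.span R (Set.range x) = ⊤) (h0 : Fitt.ideal R M (k - 1) = ⊥) {v : R}
    (hv : ∀ j, v • x j ∈ Submodule.span R (Set.range g)) {c : Fin k → R}
    (hc : ∑ i, c i • g i = 0) (i₀ : Fin k) : c i₀ * v ^ n = 0 := by
  classical
  choose b hb using fun j => (Submodule.mem_span_range_iff_exists_fun R).1 (hv j)
  let T : Matrix (Fin k) (Fin k) R := (1 : Matrix (Fin k) (Fin k) R).updateRow i₀ c
  have hT : T.det = c i₀ := by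
    have := Matrix.cramer_apply (1 : Matrix (Fin k) (Fin k) R)ᵀ c i₀
    rw [Matrix.updateCol_transpose, Matrix.det_transpose] at this
    rw [← this, Matrix.transpose_one, Matrix.cramer_one]
    rfl
  have hmem : (mixMatrix T b v).det ∈ Fitt.ideal R M (k - 1) := by
    rw [ideal_eq_J _ (span_sumElim g hx)]
    refine det_mem_J (S := (Finset.univ.erase i₀).image Sum.inl)
      (Finset.card_image_le.trans (by simp)) fun i hi => ?_
    rcases i with i | j
    · have : i = i₀ := by
        by_contra h
        exact hi (Finset.mem_image_of_mem _ (Finset.mem_erase.2 ⟨h, Finset.mem_univ i⟩))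
      subst this
      rw [mem_rel, Fintype.sum_sum_type]
      simp only [mixMatrix, Matrix.fromBlocks_apply₁₁, Matrix.fromBlocks_apply₁₂, Matrix.zero_apply,
        Sum.elim_inl, zero_smul, Finset.sum_const_zero, add_zero, T, Matrix.updateRow_self, hc]
    · exact mixMatrix_row_mem_rel hb T j
  rw [h0, Ideal.mem_bot, det_mixMatrix, hT] at hmem
  exact hmem

/-- A relevant minor outside `p` (relative to a scalar `f`) gives generators after inverting it. -/
theorem exists_minor_notMem [Module.Finite R M] (k : ℕ) (p : Ideal R) (h : ¬ Fitt.ideal R M k ≤ p) :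
    ∃ (u : R) (g : Fin k → M), u ∉ p ∧ ∀ y : M, u • y ∈ Submodule.span R (Set.range g) := by
  classical
  obtain ⟨n, x, hx⟩ := exists_generators (R := R) (M := M)
  obtain ⟨B, S, hS, h1, h2, hB⟩ : ∃ (B : Matrix (Fin n) (Fin n) R) (S : Finset (Fin n)), S.card ≤ k ∧
      (∀ i ∉ S, B i ∈ rel x) ∧ (∀ i ∈ S, ∃ j, B i = Pi.single j 1) ∧ B.det ∉ p := by
    by_contra! hall
    exact h ((ideal_eq_J x hx k).trans_le
      (J_le_of_forall _ Submodule.subset_span fun B S a b c => hall B S a b c))
  let g : Fin k → M := fun i =>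
    if h : (i : ℕ) < S.card then ∑ l, B (S.equivFin.symm ⟨i, h⟩ : S) l • x l else 0
  refine ⟨B.det, g, hB, fun y => ?_⟩
  have hy : y ∈ Submodule.span R (Set.range x) := hx.ge trivial
  induction hy using Submodule.span_induction with
  | mem z hz =>
    obtain ⟨j, rfl⟩ := hz
    rw [det_mul_smul_eq_zero h1 j]
    refine sum_mem fun i hi => Submodule.smul_mem _ _ (Submodule.subset_span ?_)
    refine ⟨⟨(S.equivFin ⟨i, hi⟩ : ℕ), (S.equivFin ⟨i, hi⟩).2.trans_le hS⟩, ?_⟩
    simp [g]
  | zero => rw [smul_zero]; exact zero_mem _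
  | add a b _ _ ha hb => rw [smul_add]; exact add_mem ha hb
  | smul c a _ ha => rw [smul_comm]; exact Submodule.smul_mem _ _ ha

/-- `Fit_k ⊄ p` iff some `u ∉ p` pushes `M` into the span of `k` elements. -/
theorem not_le_iff_exists_smul_mem_span [Module.Finite R M] (k : ℕ) (p : Ideal R) [hp : p.IsPrime] :
    ¬ Fitt.ideal R M k ≤ p ↔
      ∃ (u : R) (g : Fin k → M), u ∉ p ∧ ∀ y : M, u • y ∈ Submodule.span R (Set.range g) := by
  refine ⟨exists_minor_notMem k p, fun ⟨u, g, hu, hg⟩ hle => ?_⟩
  obtain ⟨n, x, hx⟩ := exists_generators (R := R) (M := M)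
  exact hu (hp.mem_of_pow_mem n (hle (pow_mem_ideal g hx hg)))

/-- A spanning tuple of a localization clears to `s • M ⊆ span`. -/
theorem exists_smul_mem_span_of_span_localized [Module.Finite R M] (S : Submonoid R) (Rₚ : Type w)
    [CommRing Rₚ] [Algebra R Rₚ] [IsLocalization S Rₚ] {N : Type*} [AddCommGroup N] [Module R N]
    [Module Rₚ N] [IsScalarTower R Rₚ N] (φ : M →ₗ[R] N) [IsLocalizedModule S φ] {k : ℕ}
    (g : Fin k → N) (hg : Submodule.span Rₚ (Set.range g) = ⊤) :
    ∃ (s : S) (g' : Fin k → M), ∀ y : M, (s : R) • y ∈ Submodule.span R (Set.range g') := by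
  classical
  choose q hq using fun i => IsLocalizedModule.surj S φ (g i)
  let g' : Fin k → M := fun i => (q i).1
  let W := Submodule.span R (Set.range g')
  have hgen : ∀ z : N, ∃ (t : S), ∃ w ∈ W, (t : R) • z = φ w := by
    intro z
    have hz : z ∈ Submodule.span Rₚ (Set.range g) := hg.ge trivial
    induction hz using Submodule.span_induction with
    | mem y hy =>
      obtain ⟨i, rfl⟩ := hy
      exact ⟨(q i).2, g' i, Submodule.subset_span ⟨i, rfl⟩, by rw [← hq i]; rfl⟩
    | zero => exact ⟨1, 0, W.zero_mem, by simp⟩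
    | add a b _ _ ha hb =>
      obtain ⟨ta, wa, hwa, ha⟩ := ha
      obtain ⟨tb, wb, hwb, hb⟩ := hb
      refine ⟨ta * tb, (tb : R) • wa + (ta : R) • wb, add_mem (W.smul_mem _ hwa) (W.smul_mem _ hwb), ?_⟩
      rw [Submonoid.coe_mul, smul_add, map_add, map_smul, map_smul, ← ha, ← hb, smul_smul, smul_smul,
        mul_comm (ta : R)]
    | smul c a _ ha =>
      obtain ⟨t, w, hw, ha⟩ := ha
      obtain ⟨⟨r, s⟩, hrs⟩ := IsLocalization.surj S c
      refine ⟨s * t, r • w, W.smul_mem _ hw, ?_⟩
      rw [map_smul, ← ha, ← algebraMap_smul Rₚ ((s * t : S) : R) (c • a), ← algebraMap_smul Rₚ r,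
        ← algebraMap_smul Rₚ (t : R) a, smul_smul, smul_smul, Submonoid.coe_mul, map_mul, ← hrs]
      congr 1
      ring
  obtain ⟨n, x, hx⟩ := exists_generators (R := R) (M := M)
  have hx' : ∀ j, ∃ t : S, (t : R) • x j ∈ W := by
    intro j
    obtain ⟨t, w, hw, h⟩ := hgen (φ (x j))
    rw [← map_smul] at h
    obtain ⟨t', ht'⟩ := (IsLocalizedModule.eq_iff_exists S φ).1 h
    refine ⟨t' * t, ?_⟩
    rw [Submonoid.coe_mul, mul_smul]
    exact (show (t' : R) • ((t : R) • x j) = (t' : R) • w from ht') ▸ W.smul_mem _ hw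
  choose t ht using hx'
  refine ⟨∏ j, t j, g', fun y => ?_⟩
  have hy : y ∈ Submodule.span R (Set.range x) := hx.ge trivial
  induction hy using Submodule.span_induction with
  | mem z hz =>
    obtain ⟨j, rfl⟩ := hz
    rw [Submonoid.coe_finsetProd, ← Finset.mul_prod_erase _ _ (Finset.mem_univ j), mul_comm, mul_smul]
    exact W.smul_mem _ (ht j)
  | zero => rw [smul_zero]; exact zero_mem _
  | add a b _ _ ha hb => rw [smul_add]; exact add_mem ha hb
  | smul c a _ ha => rw [smul_comm]; exact Submodule.smul_mem _ _ ha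

/-- `s • M ⊆ span g` with `s` inverted gives a spanning tuple. -/
theorem span_localized_eq_top (S : Submonoid R) (Rₚ : Type w) [CommRing Rₚ] [Algebra R Rₚ]
    [IsLocalization S Rₚ] {N : Type*} [AddCommGroup N] [Module R N] [Module Rₚ N] [IsScalarTower R Rₚ N]
    (φ : M →ₗ[R] N) [IsLocalizedModule S φ] {k : ℕ} (g : Fin k → M) (s : R) (hs : s ∈ S)
    (hg : ∀ y : M, s • y ∈ Submodule.span R (Set.range g)) :
    Submodule.span Rₚ (Set.range fun i => φ (g i)) = ⊤ := by
  rw [eq_top_iff]
  intro z _
  obtain ⟨⟨m, t⟩, ht⟩ := IsLocalizedModule.surj S φ z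
  have h1 : algebraMap R Rₚ (s * t) • z ∈ Submodule.span Rₚ (Set.range fun i => φ (g i)) := by
    rw [algebraMap_smul, mul_smul, show (t : R) • z = φ m from ht, ← map_smul]
    have := Submodule.mem_map_of_mem (f := φ) (hg m)
    rw [Submodule.map_span, ← Set.range_comp] at this
    exact Submodule.span_le_restrictScalars R Rₚ _ this
  exact (Submodule.smul_mem_iff_of_isUnit _ (IsLocalization.map_units Rₚ ⟨s * t, mul_mem hs t.2⟩)).1 h1

/-- Global generation criterion after `u • M ⊆ span g` and `Fit_(k-1) = 0`: localisation is free. -/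
theorem free_of_smul_mem_span [Module.Finite R M] {k : ℕ} (u : R) (g : Fin k → M)
    (hg : ∀ y : M, u • y ∈ Submodule.span R (Set.range g))
    (h0 : ∀ c : Fin k → R, ∑ i, c i • g i = 0 → ∀ i, ∃ N : ℕ, u ^ N * c i = 0)
    (hu : Nontrivial (Localization.Away u)) :
    Module.Free (Localization.Away u) (LocalizedModule (Submonoid.powers u) M) ∧
      Module.finrank (Localization.Away u) (LocalizedModule (Submonoid.powers u) M) = k := by
  classical
  let S := Submonoid.powers u
  let φ := LocalizedModule.mkLinearMap S M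
  have hsp := span_localized_eq_top S (Localization.Away u) φ g u (Submonoid.mem_powers u) hg
  have hli : LinearIndependent (Localization.Away u) (fun i => φ (g i)) := by
    rw [Fintype.linearIndependent_iff]
    intro c hc i
    obtain ⟨s, hs⟩ := IsLocalization.exist_integer_multiples_of_finite S c
    choose d hd using hs
    have h1 : φ (∑ i, d i • g i) = 0 := by
      simp only [map_sum, map_smul]
      have := congrArg (fun z => (algebraMap R (Localization.Away u) s) • z) hc
      simp only [Finset.smul_sum, smul_zero, smul_smul] at this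
      rw [← this]
      refine Finset.sum_congr rfl fun j _ => ?_
      rw [← algebraMap_smul (Localization.Away u) (d j), hd j, Algebra.smul_def]
    obtain ⟨t, ht⟩ := (IsLocalizedModule.eq_zero_iff S φ).1 h1
    obtain ⟨N, hN⟩ := h0 (fun j => (t : R) * d j) (by
      rw [← ht]
      simp [Finset.smul_sum, smul_smul, Submonoid.smul_def]) i
    have h2 : algebraMap R (Localization.Away u) (d i) = 0 := by
      rw [IsLocalization.map_eq_zero_iff S]
      exact ⟨⟨u ^ N, N, rfl⟩ * t, by simpa [mul_assoc] using hN⟩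
    rw [hd i, Algebra.smul_def] at h2
    exact ((IsLocalization.map_units (Localization.Away u) s).mul_right_eq_zero).1 h2
  let b := Module.Basis.mk hli hsp.ge
  exact ⟨Module.Free.of_basis b, by rw [Module.finrank_eq_card_basis b, Fintype.card_fin]⟩

end Groth.Agent.FittingLib
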