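import Groth.Agent.Lib.Fitting.Local
import Mathlib.Algebra.Module.Projective
import Mathlib.Algebra.Module.FinitePresentation
import Mathlib.LinearAlgebra.FreeModule.Finite.Basic

/-!
# Projectivity from local generators, and modules with principal Fitting ideal
-/

universe u v

open Matrix

namespace Groth.Agent.FittingLib

variable {R : Type u} [CommRing R] {M : Type v} [AddCommGroup M] [Module R M]

variable (R M) in
/-- Scalars whose action on `M` factors through a finite free module. -/
def factorsIdeal : Ideal R where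
  carrier := {r | ∃ (K : ℕ) (π : M →ₗ[R] (Fin K → R)) (σ : (Fin K → R) →ₗ[R] M), σ ∘ₗ π = r • LinearMap.id}
  zero_mem' := ⟨0, 0, 0, by simp⟩
  add_mem' := by
    rintro a b ⟨K, π, σ, h⟩ ⟨K', π', σ', h'⟩
    let e : ((Fin K → R) × (Fin K' → R)) ≃ₗ[R] (Fin (K + K') → R) :=
      (LinearEquiv.sumArrowLequivProdArrow (Fin K) (Fin K') R R).symm ≪≫ₗ
        LinearEquiv.funCongrLeft R R finSumFinEquiv.symm
    refine ⟨K + K', e.toLinearMap ∘ₗ π.prod π', (σ.coprod σ') ∘ₗ e.symm.toLinearMap, ?_⟩
    ext y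
    have h1 := LinearMap.congr_fun h y
    have h2 := LinearMap.congr_fun h' y
    simp only [LinearMap.comp_apply, LinearEquiv.coe_coe, LinearEquiv.symm_apply_apply, LinearMap.prod_apply,
      Function.prod, LinearMap.coprod_apply, LinearMap.smul_apply, LinearMap.add_apply, LinearMap.id_apply, add_smul] at h1 h2 ⊢
    rw [h1, h2]
  smul_mem' := by
    rintro c a ⟨K, π, σ, h⟩
    exact ⟨K, π, c • σ, by rw [LinearMap.smul_comp, h, smul_smul]; rfl⟩

/-- Local freeness witnesses give finite presentation and projectivity. -/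
theorem projective_of_forall_exists
    (h : ∀ (m : Ideal R), m.IsMaximal → ∃ (u : R) (k : ℕ) (g : Fin k → M) (N : ℕ), u ∉ m ∧
      (∀ y : M, u • y ∈ Submodule.span R (Set.range g)) ∧
      ∀ c : Fin k → R, ∑ i, c i • g i = 0 → ∀ i, u ^ N * c i = 0) :
    Module.Projective R M ∧ Module.FinitePresentation R M := by
  classical
  have htop : factorsIdeal R M = ⊤ := by
    by_contra hne
    obtain ⟨m, hm, hle⟩ := Ideal.exists_le_maximal _ hne
    obtain ⟨u, k, g, N, hu, hg, hrel⟩ := h m hm
    choose c hc using fun y => (Submodule.mem_span_range_iff_exists_fun R).1 (hg y)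
    have huniq : ∀ (y : M) (d : Fin k → R), ∑ i, d i • g i = u • y → u ^ N • c y = u ^ N • d := by
      intro y d hd
      funext i
      have := hrel (c y - d) (by
        simp only [Pi.sub_apply, sub_smul, Finset.sum_sub_distrib, hc, hd, sub_self]) i
      rwa [Pi.sub_apply, mul_sub, sub_eq_zero] at this
    let π : M →ₗ[R] (Fin k → R) :=
      { toFun := fun y => u ^ N • c y
        map_add' := fun a b => by
          rw [← smul_add]
          exact huniq _ _ (by simp only [Pi.add_apply, add_smul, Finset.sum_add_distrib, hc, smul_add])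
        map_smul' := fun r a => by
          rw [RingHom.id_apply, smul_comm]
          exact huniq _ _ (by simp only [Pi.smul_apply, smul_eq_mul, mul_smul, ← Finset.smul_sum, hc, smul_comm r u]) }
    have hmem : u ^ (N + 1) ∈ factorsIdeal R M := by
      refine ⟨k, π, Fintype.linearCombination R g, LinearMap.ext fun y => ?_⟩
      simp only [LinearMap.comp_apply, LinearMap.smul_apply, LinearMap.id_apply, π,
        LinearMap.coe_mk, AddHom.coe_mk, map_smul, Fintype.linearCombination_apply, hc, smul_smul,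
        ← pow_succ]
    exact hu (hm.isPrime.mem_of_pow_mem _ (hle hmem))
  obtain ⟨K, π, σ, hσ⟩ := htop.ge (Submodule.mem_top (x := (1 : R)))
  rw [one_smul] at hσ
  refine ⟨Module.Projective.of_split π σ hσ, ?_⟩
  refine Module.finitePresentation_of_surjective σ (fun y => ⟨π y, LinearMap.congr_fun hσ y⟩) ?_
  have hker : LinearMap.ker σ = LinearMap.range (LinearMap.id - π ∘ₗ σ) := by
    refine le_antisymm ?_ ?_
    · intro x hx
      exact ⟨x, by simp [LinearMap.mem_ker.1 hx]⟩
    · rintro _ ⟨x, rfl⟩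
      have := LinearMap.congr_fun hσ (σ x)
      simp only [LinearMap.comp_apply, LinearMap.id_apply] at this
      rw [LinearMap.mem_ker, LinearMap.sub_apply, LinearMap.id_apply, map_sub, LinearMap.comp_apply, this, sub_self]
  rw [hker, LinearMap.range_eq_map]
  exact Submodule.FG.map _ Module.Finite.fg_top

/-- `Fit_k = (f)` with `f` regular: local generators of `M ⧸ ker f`, and control of their relations. -/
theorem exists_generators_quotient_ker [Module.Finite R M] (k : ℕ) (f : R)
    (hf0 : f ∈ nonZeroDivisors R) (hf : Fitt.ideal R M k = Ideal.span {f})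
    {P : Submodule R M} (hP : ∀ y, f • y = 0 → y ∈ P) (hP' : ∀ y ∈ P, ∃ N : ℕ, f ^ N • y = 0)
    (p : Ideal R) (hp : p ≠ ⊤) :
    ∃ (u : R) (g : Fin k → M) (N : ℕ), u ∉ p ∧
      (∀ y : M ⧸ P, u • y ∈ Submodule.span R (Set.range (P.mkQ ∘ g))) ∧
      ((k = 0 ∨ Fitt.ideal R M (k - 1) = ⊥) →
        ∀ c : Fin k → R, ∑ i, c i • (P.mkQ ∘ g) i = 0 → ∀ i, u ^ N * c i = 0) := by
  classical
  obtain ⟨n, x, hx⟩ := exists_generators (R := R) (M := M)
  have hreg : ∀ (N : ℕ) (r : R), f ^ N * r = 0 → r = 0 := fun N r hr =>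
    (pow_mem hf0 N).1 r hr
  have hJ := (ideal_eq_J x hx k).symm.trans hf
  obtain ⟨B, S, hS, h1, h2, hB⟩ : ∃ (B : Matrix (Fin n) (Fin n) R) (S : Finset (Fin n)), S.card ≤ k ∧
      (∀ i ∉ S, B i ∈ rel x) ∧ (∀ i ∈ S, ∃ j, B i = Pi.single j 1) ∧
      B.det ∉ p * Ideal.span {f} := by
    by_contra! hall
    obtain ⟨c, hc, he⟩ := Ideal.mem_mul_span_singleton.1 ((hJ.ge.trans
      (J_le_of_forall _ Submodule.subset_span fun B S a b c => hall B S a b c))
      (Ideal.mem_span_singleton_self f))
    have : 1 - c = 0 := hreg 1 _ (by rw [pow_one, mul_sub, mul_one, mul_comm, he, sub_self])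
    rw [sub_eq_zero] at this
    exact hp ((Ideal.eq_top_iff_one _).2 (this ▸ hc))
  have hmem : ∀ (A : Matrix (Fin n) (Fin n) R), (∀ i ∉ S, A i ∈ rel x) → ∃ c, A.det = c * f :=
    fun A hA => Ideal.mem_span_singleton'.1 (hJ.le (det_mem_J hS hA)) |>.imp fun _ h => h.symm
  obtain ⟨u, hu⟩ := hmem B h1
  have hu' : u ∉ p := fun h => hB (Ideal.mem_mul_span_singleton.2 ⟨u, h, hu.symm⟩)
  let gg : Fin k → M := fun i => if h : (i : ℕ) < S.card
    then ∑ l, B (S.equivFin.symm ⟨i, h⟩ : S) l • x l else 0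
  have hgg : ∀ i ∈ S, ∑ l, B i l • x l ∈ Set.range gg := fun i hi =>
    ⟨⟨(S.equivFin ⟨i, hi⟩ : ℕ), (S.equivFin ⟨i, hi⟩).2.trans_le hS⟩, by simp [gg]⟩
  have hgx : ∀ j, (f * u) • x j ∈ Submodule.span R (Set.range gg) := fun j => by
    rw [mul_comm, ← hu, det_mul_smul_eq_zero h1 j]
    exact sum_mem fun i hi => Submodule.smul_mem _ _ (Submodule.subset_span (hgg i hi))
  have hadj : ∀ j, ∀ i ∈ S, ∃ c, B.adjugate j i = c * f := by
    intro j i hi
    rw [Matrix.adjugate_apply]
    refine hmem _ fun l hl => ?_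
    rw [Matrix.updateRow_ne (fun h : l = i => hl (h.symm ▸ hi))]
    exact h1 l hl
  choose c hc using hadj
  refine ⟨u, gg, n, hu', fun y => ?_, fun hk d hd i₀ => ?_⟩
  · obtain ⟨y, rfl⟩ := P.mkQ_surjective y
    have hy : y ∈ Submodule.span R (Set.range x) := hx.ge trivial
    rw [Set.range_comp, Submodule.span_image, ← map_smul]
    induction hy using Submodule.span_induction with
    | mem z hz =>
      obtain ⟨j, rfl⟩ := hz
      let w : M := ∑ i ∈ S.attach, c j i.1 i.2 • ∑ l, B i.1 l • x l
      have hker : u • x j - w ∈ P := by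
        refine hP _ ?_
        rw [smul_sub, smul_smul, mul_comm, ← hu, det_mul_smul_eq_zero h1 j,
          sub_eq_zero, ← Finset.sum_attach S, Finset.smul_sum]
        exact Finset.sum_congr rfl fun i _ => by rw [hc j i.1 i.2, smul_smul, mul_comm]
      exact ⟨w, sum_mem fun i _ => Submodule.smul_mem _ _ (Submodule.subset_span (hgg i.1 i.2)),
        ((Submodule.Quotient.eq P).2 hker).symm⟩
    | zero => rw [smul_zero, map_zero]; exact zero_mem _
    | add a b _ _ ha hb => rw [smul_add, map_add]; exact add_mem ha hb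
    | smul r a _ ha => rw [smul_comm, map_smul]; exact Submodule.smul_mem _ _ ha
  · have hk' : Fitt.ideal R M (k - 1) = ⊥ := hk.resolve_left (by have := i₀.2; omega)
    have hmk : P.mkQ (∑ i, d i • gg i) = 0 := by
      rw [map_sum]
      simpa using hd
    rw [Submodule.mkQ_apply, Submodule.Quotient.mk_eq_zero] at hmk
    obtain ⟨N, hN⟩ := hP' _ hmk
    have hrel : ∑ i, (f ^ N * d i) • gg i = 0 := by
      rw [← hN, Finset.smul_sum]
      simp [mul_smul]
    have hfin := coeff_mul_pow_eq_zero gg hx hk' hgx hrel i₀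
    refine hreg (N + n) _ ?_
    rw [← hfin, mul_pow, pow_add]
    ring

/-- With `Fit_0 = (f)`, `f` regular, relation modules are projective. -/
theorem projective_rel {n : ℕ} (x : Fin n → M) (hx : Submodule.span R (Set.range x) = ⊤) (f : R)
    (hf0 : f ∈ nonZeroDivisors R) (hf : Fitt.ideal R M 0 = Ideal.span {f}) :
    Module.Projective R (rel (R := R) x) := by
  classical
  have hJ := (ideal_eq_J x hx 0).symm.trans hf
  refine (projective_of_forall_exists fun m hm => ?_).1
  obtain ⟨A, hA, hAm⟩ : ∃ A : Matrix (Fin n) (Fin n) R, (∀ i, A i ∈ rel x) ∧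
      A.det ∉ m * Ideal.span {f} := by
    by_contra! hall
    have hle : J x 0 ≤ m * Ideal.span {f} := by
      refine Ideal.span_le.2 ?_
      rintro _ ⟨A, S, hS, hA, rfl⟩
      rw [Nat.le_zero, Finset.card_eq_zero] at hS
      exact hall A fun i => hA i (by simp [hS])
    obtain ⟨c, hc, he⟩ := Ideal.mem_mul_span_singleton.1 ((hJ.ge.trans hle) (Ideal.mem_span_singleton_self f))
    have : 1 - c = 0 := hf0.1 _ (by rw [mul_sub, mul_one, mul_comm, he, sub_self])
    rw [sub_eq_zero] at this
    exact hm.ne_top ((Ideal.eq_top_iff_one _).2 (this ▸ hc))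
  have hmem : ∀ B : Matrix (Fin n) (Fin n) R, (∀ i, B i ∈ rel x) → ∃ c, B.det = c * f := fun B hB =>
    Ideal.mem_span_singleton'.1 (hJ.le (det_mem_J (S := ∅) le_rfl fun i _ => hB i)) |>.imp fun _ h => h.symm
  obtain ⟨u, hu⟩ := hmem A hA
  refine ⟨u, n, fun i => ⟨A i, hA i⟩, 1, fun h => hAm (Ideal.mem_mul_span_singleton.2 ⟨u, h, hu.symm⟩),
    fun v => ?_, fun d hd i => ?_⟩
  · have hcr : ∀ i, ∃ c, Matrix.cramer Aᵀ v.1 i = c * f := by
      intro i
      rw [Matrix.cramer_apply, Matrix.updateCol_transpose, Matrix.det_transpose]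
      refine hmem _ fun l => ?_
      by_cases hl : l = i
      · subst hl; rw [Matrix.updateRow_self]; exact v.2
      · rw [Matrix.updateRow_ne hl]; exact hA l
    choose c hc using hcr
    refine (Submodule.mem_span_range_iff_exists_fun R).2 ⟨c, Subtype.ext (funext fun j => ?_)⟩
    have h1 := congrFun (Matrix.mulVec_cramer Aᵀ v.1) j
    rw [Matrix.det_transpose, hu, Matrix.mulVec, dotProduct] at h1
    simp only [Matrix.transpose_apply, hc, Pi.smul_apply, smul_eq_mul] at h1
    simp only [Submodule.coe_sum, Submodule.coe_smul, Finset.sum_apply, Pi.smul_apply, smul_eq_mul]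
    refine sub_eq_zero.1 (hf0.1 _ ?_)
    rw [mul_sub, sub_eq_zero, Finset.mul_sum]
    refine Eq.trans ?_ (h1.trans (by ring))
    exact Finset.sum_congr rfl fun i _ => by ring
  · have h1 : Aᵀ *ᵥ d = 0 := by
      funext j
      have := congrFun (congrArg Subtype.val hd) j
      simp only [Submodule.coe_sum, Submodule.coe_smul, Finset.sum_apply, Pi.smul_apply, smul_eq_mul,
        Submodule.coe_zero, Pi.zero_apply] at this
      rw [Matrix.mulVec, dotProduct, Pi.zero_apply, ← this]
      exact Finset.sum_congr rfl fun i _ => by rw [Matrix.transpose_apply, mul_comm]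
    have h2 := congrArg (fun w => (Aᵀ).adjugate *ᵥ w) h1
    simp only [Matrix.mulVec_mulVec, Matrix.adjugate_mul, Matrix.smul_mulVec, Matrix.one_mulVec,
      Matrix.mulVec_zero, Matrix.det_transpose, hu] at h2
    have h3 := congrFun h2 i
    simp only [Pi.smul_apply, smul_eq_mul, Pi.zero_apply] at h3
    rw [pow_one]
    exact hf0.1 _ (by rw [← h3]; ring)

end Groth.Agent.FittingLib
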