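import Groth.Agent.Lib.Fitting.Basic
import Mathlib.LinearAlgebra.TensorProduct.Pi
import Mathlib.LinearAlgebra.TensorProduct.RightExactness
import Mathlib.LinearAlgebra.TensorProduct.Tower
import Mathlib.RingTheory.LocalRing.ResidueField.Basic
import Mathlib.RingTheory.TensorProduct.Finite

/-!
# Fitting ideals: functoriality
-/

universe u v w

open Matrix TensorProduct

namespace Groth.Agent.FittingLib

variable {R : Type u} [CommRing R] {M : Type v} [AddCommGroup M] [Module R M]

theorem ideal_eq_top_of_span {n : ℕ} (x : Fin n → M) (hx : Submodule.span R (Set.range x) = ⊤)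
    {k : ℕ} (h : n ≤ k) : Fitt.ideal R M k = ⊤ := by
  rw [ideal_eq_J x hx, J_eq_top_of_card_le x (by simpa using h)]

theorem ideal_mono [Module.Finite R M] {k l : ℕ} (h : k ≤ l) :
    Fitt.ideal R M k ≤ Fitt.ideal R M l := by
  obtain ⟨n, x, hx⟩ := exists_generators (R := R) (M := M)
  rw [ideal_eq_J x hx, ideal_eq_J x hx]
  exact J_mono x h

theorem ideal_le_of_surjective [Module.Finite R M] {M' : Type*} [AddCommGroup M'] [Module R M']
    (f : M →ₗ[R] M') (hf : Function.Surjective f) (k : ℕ) :
    Fitt.ideal R M k ≤ Fitt.ideal R M' k := by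
  obtain ⟨n, x, hx⟩ := exists_generators (R := R) (M := M)
  have hy : Submodule.span R (Set.range (f ∘ x)) = ⊤ := by
    rw [Set.range_comp, Submodule.span_image, hx, Submodule.map_top, LinearMap.range_eq_top.2 hf]
  rw [ideal_eq_J x hx, ideal_eq_J (f ∘ x) hy]
  refine Ideal.span_mono fun d ⟨A, S, hS, hA, hd⟩ => ⟨A, S, hS, fun i hi => mem_rel.2 ?_, hd⟩
  have := congrArg f (mem_rel.1 (hA i hi))
  simpa using this

theorem ideal_zero_le_annihilator [Module.Finite R M] :
    Fitt.ideal R M 0 ≤ Module.annihilator R M := by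
  obtain ⟨n, x, hx⟩ := exists_generators (R := R) (M := M)
  rw [ideal_eq_J x hx]
  refine Ideal.span_le.2 ?_
  rintro _ ⟨A, S, hS, hA, rfl⟩
  rw [Nat.le_zero, Finset.card_eq_zero] at hS
  subst hS
  refine Module.mem_annihilator.2 fun m => ?_
  have hm : m ∈ Submodule.span R (Set.range x) := hx.ge trivial
  induction hm using Submodule.span_induction with
  | mem y hy =>
    obtain ⟨j, rfl⟩ := hy
    rw [det_mul_smul_eq_zero hA j, Finset.sum_empty]
  | zero => rw [smul_zero]
  | add a b _ _ ha hb => rw [smul_add, ha, hb, add_zero]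
  | smul c a _ ha => rw [smul_comm, ha, smul_zero]

theorem pow_mem_ideal_zero {n : ℕ} (x : Fin n → M) (hx : Submodule.span R (Set.range x) = ⊤) {c : R}
    (hc : c ∈ Module.annihilator R M) : c ^ n ∈ Fitt.ideal R M 0 := by
  rw [ideal_eq_J x hx, show c ^ n = (Matrix.diagonal fun _ : Fin n => c).det by simp]
  refine det_mem_J (S := ∅) le_rfl fun i _ => mem_rel.2 ?_
  simp [Matrix.diagonal_apply, ite_smul, Module.mem_annihilator.1 hc]

theorem zeroLocus_ideal_zero [Module.Finite R M] :
    PrimeSpectrum.zeroLocus (Fitt.ideal R M 0 : Set R) =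
      PrimeSpectrum.zeroLocus (Module.annihilator R M : Set R) := by
  refine le_antisymm (fun p hp c hc => ?_)
    (PrimeSpectrum.zeroLocus_anti_mono_ideal ideal_zero_le_annihilator)
  obtain ⟨n, x, hx⟩ := exists_generators (R := R) (M := M)
  exact p.isPrime.mem_of_pow_mem n (hp (pow_mem_ideal_zero x hx hc))

theorem ideal_fg [Module.FinitePresentation R M] (k : ℕ) : (Fitt.ideal R M k).FG := by
  classical
  obtain ⟨n, x, hx⟩ := exists_generators (R := R) (M := M)
  have hsurj : Function.Surjective (Fintype.linearCombination R x) := by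
    rw [← LinearMap.range_eq_top, Fintype.range_linearCombination, hx]
  obtain ⟨T, hT⟩ := Module.FinitePresentation.fg_ker (Fintype.linearCombination R x) hsurj
  let U : Finset (Fin n → R) := T ∪ Finset.univ.image fun j : Fin n => (Pi.single j 1 : Fin n → R)
  let D : Set R := {d | ∃ (B : Matrix (Fin n) (Fin n) R) (S : Finset (Fin n)), S.card ≤ k ∧
    (∀ i ∉ S, B i ∈ T) ∧ (∀ i ∈ S, ∃ j, B i = Pi.single j 1) ∧ d = B.det}
  have hfin : D.Finite := by
    refine ((Fintype.piFinset fun _ : Fin n => U).finite_toSet.image
      fun B : Fin n → Fin n → R => Matrix.det (Matrix.of B)).subset ?_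
    rintro d ⟨B, S, -, h1, h2, rfl⟩
    refine ⟨B, ?_, rfl⟩
    refine Finset.mem_coe.2 (Fintype.mem_piFinset.2 fun i => ?_)
    simp only [U, Finset.mem_union, Finset.mem_image]
    by_cases hi : i ∈ S
    · obtain ⟨j, hj⟩ := h2 i hi
      exact Or.inr ⟨j, Finset.mem_univ j, hj.symm⟩
    · exact Or.inl (h1 i hi)
  rw [ideal_eq_J x hx]
  have heq : J x k = Submodule.span R D := by
    refine le_antisymm (J_le_of_forall (T : Set (Fin n → R)) hT.ge
      fun B S h1 h2 h3 => Submodule.subset_span ⟨B, S, h1, h2, h3, rfl⟩) (Submodule.span_le.2 ?_)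
    rintro _ ⟨B, S, h1, h2, -, rfl⟩
    exact det_mem_J h1 fun i hi => hT.le (Submodule.subset_span (h2 i hi))
  rw [heq]
  exact Submodule.fg_span hfin

section Minors

theorem J_eq_span_minors {n : ℕ} (x : Fin n → M) (k : ℕ) :
    J (R := R) x k = Ideal.span {d | ∃ (z : Fin (n - k) → (Fin n → R)) (e : Fin (n - k) → Fin n),
      (∀ j, ∑ i, z j i • x i = 0) ∧ d = (Matrix.of fun a b => z b (e a)).det} := by
  classical
  refine le_antisymm ?_ (Ideal.span_le.2 ?_)
  · refine Ideal.span_le.2 ?_
    rintro _ ⟨A, S, hS, hA, rfl⟩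
    obtain ⟨S', hSS, hS'⟩ := Finset.exists_superset_card_eq (s := S) (n := n - (n - k))
      (by have := S.card_le_univ; simp at this; omega) (by simp)
    refine det_mem_of_rows_mem_span
      (fun i => if i ∈ S' then Set.range (fun j => (Pi.single j 1 : Fin n → R)) else ((rel (R := R) x : Submodule R (Fin n → R)) : Set (Fin n → R)))
      _ (fun B hB => ?_) A fun i => ?_
    · have hB' : ∀ i ∈ S', ∃ j, B i = Pi.single j 1 := fun i hi => by
        have := hB i
        simp only [hi, if_true] at this
        obtain ⟨j, hj⟩ := this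
        exact ⟨j, hj.symm⟩
      rcases det_eq_mul_minor B S' hB' with h | ⟨c, g, e, -, -, -, h⟩
      · rw [h]; exact Submodule.zero_mem _
      · rw [h]
        refine Ideal.mul_mem_left _ _ (Ideal.subset_span ?_)
        have hcard : Fintype.card {i // i ∉ S'} = n - k := by
          rw [Fintype.card_subtype_compl, Fintype.card_fin, Fintype.card_coe, hS']
          omega
        let τ := (Fintype.equivFinOfCardEq hcard).symm
        refine ⟨fun j => B (τ j).1, fun j => e (τ j), fun j => ?_, ?_⟩
        · have := hB (τ j).1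
          simp only [(τ j).2, if_false] at this
          exact mem_rel.1 this
        · rw [← Matrix.det_submatrix_equiv_self τ, ← Matrix.det_transpose]
          rfl
    · by_cases hi : i ∈ S'
      · simp only [hi, if_true]
        rw [span_single_eq_top]
        exact trivial
      · simp only [hi, if_false]
        exact Submodule.subset_span (hA i fun h => hi (hSS h))
  · rintro _ ⟨z, e, hz, rfl⟩
    by_cases he : Function.Injective e
    · let σ : Fin (n - k) ⊕ {j : Fin n // j ∉ Set.range e} ≃ Fin n :=
        (Equiv.sumCongr (Equiv.ofInjective e he) (Equiv.refl _)).trans (Equiv.sumCompl fun j => j ∈ Set.range e)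
      let rows : Fin (n - k) ⊕ {j : Fin n // j ∉ Set.range e} → (Fin n → R) :=
        Sum.elim z fun j => Pi.single j.1 1
      let A : Matrix (Fin n) (Fin n) R := fun i => rows (σ.symm i)
      have hA : A.det = (Matrix.of fun a b => z b (e a)).det := by
        rw [← Matrix.det_submatrix_equiv_self σ A]
        have : A.submatrix σ σ = Matrix.fromBlocks (Matrix.of fun a b => z a (e b))
            (Matrix.of fun a b => z a (b : {j : Fin n // j ∉ Set.range e}).1) 0 1 := by
          ext a b
          rw [Matrix.submatrix_apply]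
          show rows (σ.symm (σ a)) (σ b) = _
          rw [Equiv.symm_apply_apply]
          rcases a with a | a <;> rcases b with b | b
          · rfl
          · rfl
          · show (Pi.single a.1 (1 : R) : Fin n → R) (e b) = 0
            rw [Pi.single_apply, if_neg fun h => a.2 ⟨b, h⟩]
          · show (Pi.single a.1 (1 : R) : Fin n → R) b.1 = (1 : Matrix _ _ R) a b
            rw [Pi.single_apply, Matrix.one_apply]
            exact if_congr ⟨fun h => Subtype.ext h.symm, fun h => h ▸ rfl⟩ rfl rfl
        rw [this, Matrix.det_fromBlocks_zero₂₁, Matrix.det_one, mul_one, ← Matrix.det_transpose]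
        rfl
      rw [← hA]
      refine det_mem_J (S := Finset.univ.filter fun i : Fin n => (σ.symm i).isRight) ?_ fun i hi => ?_
      · refine le_trans (le_of_eq ?_) (show n - (n - k) ≤ k by omega)
        rw [← Fintype.card_subtype]
        have h1 := Fintype.card_congr σ
        simp only [Fintype.card_sum, Fintype.card_fin] at h1
        have h2 : Fintype.card {i : Fin n // (σ.symm i).isRight = true} =
            Fintype.card {j : Fin n // j ∉ Set.range e} := by
          refine (Fintype.card_congr ?_).symm
          exact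
            { toFun := fun j => ⟨σ (Sum.inr j), by simp⟩
              invFun := fun i => (σ.symm i.1).getRight i.2
              left_inv := fun j => by simp
              right_inv := fun i => by
                ext
                simp [Sum.inr_getRight] }
        omega
      · simp only [Finset.mem_filter, Finset.mem_univ, true_and] at hi
        rw [mem_rel]
        show ∑ j, rows (σ.symm i) j • x j = 0
        rcases hσ : σ.symm i with a | a
        · exact hz a
        · rw [hσ] at hi; simp at hi
    · simp only [Function.Injective, not_forall] at he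
      obtain ⟨a, b, hab, hne⟩ := he
      rw [Matrix.det_zero_of_row_eq hne (funext fun c => by simp [hab])]
      exact Submodule.zero_mem _

end Minors

section BaseChange

variable (R' : Type w) [CommRing R'] [Algebra R R']

/-- Relations after base change are spanned by images of relations. -/
theorem rel_baseChange_le {n : ℕ} (x : Fin n → M) (hx : Submodule.span R (Set.range x) = ⊤) :
    rel (R := R') (fun i => (1 : R') ⊗ₜ[R] x i) ≤
      Submodule.span R' ((fun v i => algebraMap R R' (v i)) '' ((rel (R := R) x : Submodule R (Fin n → R)) : Set (Fin n → R))) := by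
  classical
  let f := Fintype.linearCombination R x
  let K := rel (R := R) x
  have hf : Function.Surjective f := by
    rw [← LinearMap.range_eq_top, Fintype.range_linearCombination, hx]
  let e := TensorProduct.piScalarRight R R' R' (Fin n)
  intro v hv
  rw [mem_rel] at hv
  have key : f.lTensor R' (e.symm v) = ∑ i, v i • ((1 : R') ⊗ₜ[R] x i) := by
    have hsum : e.symm v = ∑ i, (v i) ⊗ₜ[R] (Pi.single i 1 : Fin n → R) := by
      rw [LinearEquiv.symm_apply_eq, map_sum]
      simp only [e, TensorProduct.piScalarRight_apply, TensorProduct.piScalarRightHom_tmul]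
      ext j
      simp [Finset.sum_apply, Pi.single_apply, ite_smul]
    rw [hsum, map_sum]
    refine Finset.sum_congr rfl fun i _ => ?_
    rw [LinearMap.lTensor_tmul, TensorProduct.smul_tmul', smul_eq_mul, mul_one]
    congr 1
    simp [f, Fintype.linearCombination_apply, Pi.single_apply, ite_smul]
  rw [hv] at key
  have hex : Function.Exact K.subtype f := LinearMap.exact_iff.2 (Submodule.range_subtype _).symm
  obtain ⟨t, ht⟩ := ((lTensor_exact R' hex hf) _).1 key
  rw [← e.apply_symm_apply v, ← ht]
  clear ht key
  induction t with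
  | zero => simp
  | add a b ha hb => rw [map_add, map_add]; exact Submodule.add_mem _ ha hb
  | tmul r w =>
    rw [LinearMap.lTensor_tmul]
    have : e (r ⊗ₜ[R] (K.subtype w)) = r • (fun i => algebraMap R R' (w.1 i)) := by
      ext i
      simp [e, Algebra.smul_def, mul_comm]
    rw [this]
    exact Submodule.smul_mem _ _ (Submodule.subset_span ⟨w.1, w.2, rfl⟩)

theorem span_baseChange_eq_top {n : ℕ} (x : Fin n → M) (hx : Submodule.span R (Set.range x) = ⊤) :
    Submodule.span R' (Set.range fun i => (1 : R') ⊗ₜ[R] x i) = ⊤ := by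
  have := congrArg (Submodule.baseChange R') hx
  rw [Submodule.baseChange_span, Submodule.baseChange_top, ← Set.range_comp] at this
  exact this

theorem ideal_baseChange [Module.Finite R M] (k : ℕ) :
    Fitt.ideal R' (R' ⊗[R] M) k = (Fitt.ideal R M k).map (algebraMap R R') := by
  classical
  obtain ⟨n, x, hx⟩ := exists_generators (R := R) (M := M)
  rw [ideal_eq_J x hx, ideal_eq_J _ (span_baseChange_eq_top R' x hx)]
  refine le_antisymm ?_ ?_
  · refine J_le_of_forall _ (rel_baseChange_le R' x hx) fun B S hS h1 h2 => ?_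
    choose w hw1 hw2 using h1
    choose g hg using h2
    let A : Matrix (Fin n) (Fin n) R :=
      fun i => if h : i ∈ S then Pi.single (g i h) 1 else w i h
    have : B = (algebraMap R R').mapMatrix A := by
      ext i j
      rw [RingHom.mapMatrix_apply, Matrix.map_apply]
      by_cases h : i ∈ S
      · simp [A, h, hg i h, Pi.single_apply, apply_ite (algebraMap R R')]
      · simp [A, h, ← hw2 i h]
    rw [this, ← RingHom.map_det]
    refine Ideal.mem_map_of_mem _ (det_mem_J hS fun i hi => ?_)
    simpa [A, hi] using hw1 i hi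
  · rw [Ideal.map_le_iff_le_comap, J, Ideal.span_le]
    rintro _ ⟨A, S, hS, hA, rfl⟩
    rw [SetLike.mem_coe, Ideal.mem_comap, RingHom.map_det]
    refine det_mem_J hS fun i hi => mem_rel.2 ?_
    simp only [RingHom.mapMatrix_apply, Matrix.map_apply, algebraMap_smul, ← TensorProduct.tmul_smul,
      ← TensorProduct.tmul_sum, mem_rel.1 (hA i hi), TensorProduct.tmul_zero]

theorem ideal_congr [Module.Finite R M] {M' : Type*} [AddCommGroup M'] [Module R M']
    (e : M ≃ₗ[R] M') (k : ℕ) : Fitt.ideal R M k = Fitt.ideal R M' k := by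
  have : Module.Finite R M' := Module.Finite.equiv e
  exact le_antisymm (ideal_le_of_surjective e.toLinearMap e.surjective k)
    (ideal_le_of_surjective e.symm.toLinearMap e.symm.surjective k)

end BaseChange

section Local

/-- With a basis, `Fit_k = 0` below the rank. -/
theorem ideal_eq_bot_of_basis {ι : Type*} [Fintype ι] (b : Module.Basis ι R M) {k : ℕ}
    (h : k < Fintype.card ι) : Fitt.ideal R M k = ⊥ := by
  classical
  rw [ideal_eq_J b b.span_eq, eq_bot_iff]
  refine Ideal.span_le.2 ?_
  rintro _ ⟨A, S, hS, hA, rfl⟩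
  obtain ⟨i, hi⟩ : ∃ i, i ∉ S := by
    by_contra! hall
    have : S = Finset.univ := Finset.eq_univ_of_forall hall
    rw [this, Finset.card_univ] at hS
    omega
  rw [SetLike.mem_coe, Ideal.mem_bot]
  refine Matrix.det_eq_zero_of_row_eq_zero i fun j => ?_
  have h0 := Fintype.linearIndependent_iff.1 b.linearIndependent (A i) (mem_rel.1 (hA i hi))
  exact h0 j

theorem ideal_eq_top_iff_finrank [Module.Finite R M] [Module.Free R M] [Nontrivial R] (k : ℕ) :
    Fitt.ideal R M k = ⊤ ↔ Module.finrank R M ≤ k := by
  classical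
  let b := Module.Free.chooseBasis R M
  rw [Module.finrank_eq_card_basis b]
  constructor
  · intro h
    by_contra hk
    exact bot_ne_top ((ideal_eq_bot_of_basis b (not_le.1 hk)).symm.trans h)
  · intro h
    rw [ideal_eq_J b b.span_eq, J_eq_top_of_card_le b h]

/-- `Fit_k ⊄ p` iff the fibre at `p` has dimension at most `k`. -/
theorem not_le_iff_finrank_fiber_le [Module.Finite R M] (k : ℕ) (p : Ideal R) [p.IsPrime] :
    ¬ Fitt.ideal R M k ≤ p ↔
      Module.finrank p.ResidueField (p.ResidueField ⊗[R] M) ≤ k := by
  rw [← ideal_eq_top_iff_finrank, ideal_baseChange]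
  constructor
  · intro h
    obtain ⟨a, ha, hap⟩ := SetLike.not_le_iff_exists.1 h
    refine Ideal.eq_top_of_isUnit_mem _ (Ideal.mem_map_of_mem _ ha) (isUnit_iff_ne_zero.2 ?_)
    rwa [Ne, Ideal.algebraMap_residueField_eq_zero]
  · intro h hle
    have : (Fitt.ideal R M k).map (algebraMap R p.ResidueField) = ⊥ := by
      rw [Ideal.map_eq_bot_iff_le_ker, Ideal.ker_algebraMap_residueField]
      exact hle
    exact bot_ne_top (this.symm.trans h)

/-- Over a local ring, `Fit_k = (1)` iff `k` elements generate. -/
theorem ideal_eq_top_iff_generated [IsLocalRing R] [Module.Finite R M] (k : ℕ) :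
    Fitt.ideal R M k = ⊤ ↔ ∃ g : Fin k → M, Submodule.span R (Set.range g) = ⊤ := by
  classical
  refine ⟨fun h => ?_, fun ⟨g, hg⟩ => ideal_eq_top_of_span g hg le_rfl⟩
  obtain ⟨n, x, hx⟩ := exists_generators (R := R) (M := M)
  have hne : ∃ (B : Matrix (Fin n) (Fin n) R) (S : Finset (Fin n)), S.card ≤ k ∧
      (∀ i ∉ S, B i ∈ rel x) ∧ (∀ i ∈ S, ∃ j, B i = Pi.single j 1) ∧ IsUnit B.det := by
    by_contra! hall
    have hle : Fitt.ideal R M k ≤ IsLocalRing.maximalIdeal R := by
      rw [ideal_eq_J x hx]
      exact J_le_of_forall _ Submodule.subset_span fun B S h1 h2 h3 =>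
        (IsLocalRing.mem_maximalIdeal _).2 (hall B S h1 h2 h3)
    exact (IsLocalRing.maximalIdeal.isMaximal R).ne_top (top_le_iff.1 (h.ge.trans hle))
  obtain ⟨B, S, hS, h1, h2, hu⟩ := hne
  choose g hg using h2
  let T : Finset M := S.attach.image fun i => x (g i.1 i.2)
  have hT : Submodule.span R (T : Set M) = ⊤ := by
    rw [eq_top_iff, ← hx, Submodule.span_le]
    rintro _ ⟨j, rfl⟩
    obtain ⟨u, hu'⟩ := hu
    have := det_mul_smul_eq_zero h1 j
    rw [← hu', ← Units.smul_def] at this
    rw [SetLike.mem_coe, ← inv_smul_smul u (x j), this]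
    refine Submodule.smul_mem _ _ (sum_mem fun i hi => Submodule.smul_mem _ _ ?_)
    refine Submodule.subset_span ?_
    simp only [T, Finset.coe_image, Set.mem_image, Finset.mem_coe, Finset.mem_attach, true_and]
    exact ⟨⟨i, hi⟩, by simp [hg i hi, Pi.single_apply, ite_smul]⟩
  have hcard : T.card ≤ k := Finset.card_image_le.trans (by simpa using hS)
  refine ⟨fun i => if h : (i : ℕ) < T.card then ((T.equivFin.symm ⟨i, h⟩ : T) : M) else 0, ?_⟩
  rw [eq_top_iff, ← hT]
  refine Submodule.span_mono fun m hm => ?_
  refine ⟨⟨(T.equivFin ⟨m, hm⟩ : ℕ), (T.equivFin ⟨m, hm⟩).2.trans_le hcard⟩, ?_⟩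
  simp

end Local

end Groth.Agent.FittingLib
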