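import Groth.Prelude.Def_Fitting
import Mathlib.LinearAlgebra.Matrix.Adjugate
import Mathlib.LinearAlgebra.Matrix.Determinant.Basic
import Mathlib.RingTheory.Finiteness.Basic
import Mathlib.Algebra.Module.FinitePresentation

/-!
# Fitting ideals from one generating tuple
-/

universe u v w

open Matrix

namespace Groth.Agent.FittingLib

variable {R : Type u} [CommRing R] {M : Type v} [AddCommGroup M] [Module R M]

/-- Relations of a tuple. -/
def rel {ι : Type w} [Fintype ι] (x : ι → M) : Submodule R (ι → R) :=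
  LinearMap.ker (Fintype.linearCombination R x)

theorem mem_rel {ι : Type w} [Fintype ι] {x : ι → M} {v : ι → R} :
    v ∈ rel x ↔ ∑ i, v i • x i = 0 := by
  simp [rel, Fintype.linearCombination_apply]

/-- Determinants with all but at most `k` rows relations of `x`. -/
def dets {ι : Type w} [Fintype ι] [DecidableEq ι] (x : ι → M) (k : ℕ) : Set R :=
  {d | ∃ (A : Matrix ι ι R) (S : Finset ι), S.card ≤ k ∧ (∀ i ∉ S, A i ∈ rel x) ∧ d = A.det}

/-- The Fitting ideal computed from a tuple. -/
def J {ι : Type w} [Fintype ι] [DecidableEq ι] (x : ι → M) (k : ℕ) : Ideal R :=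
  Ideal.span (dets x k)

theorem det_mem_J {ι : Type w} [Fintype ι] [DecidableEq ι] {x : ι → M} {k : ℕ} {A : Matrix ι ι R}
    {S : Finset ι} (hS : S.card ≤ k) (h : ∀ i ∉ S, A i ∈ rel x) : A.det ∈ J x k :=
  Ideal.subset_span ⟨A, S, hS, h, rfl⟩

theorem J_mono {ι : Type w} [Fintype ι] [DecidableEq ι] (x : ι → M) {k l : ℕ} (h : k ≤ l) :
    J (R := R) x k ≤ J x l :=
  Ideal.span_mono fun _ ⟨A, S, hS, hA, hd⟩ => ⟨A, S, hS.trans h, hA, hd⟩

theorem J_eq_top_of_card_le {ι : Type w} [Fintype ι] [DecidableEq ι] (x : ι → M) {k : ℕ}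
    (h : Fintype.card ι ≤ k) : J (R := R) x k = ⊤ :=
  (Ideal.eq_top_iff_one _).2 <| by
    simpa using det_mem_J (x := x) (A := (1 : Matrix ι ι R)) (S := Finset.univ) (by simpa using h)
      (fun i hi => absurd (Finset.mem_univ i) hi)

theorem rel_comp_equiv {ι κ : Type*} [Fintype ι] [Fintype κ] (x : ι → M) (e : κ ≃ ι) {v : ι → R}
    (h : v ∈ rel x) : v ∘ e ∈ rel (x ∘ e) := by
  rw [mem_rel] at h ⊢
  rw [← h]
  exact Fintype.sum_equiv e _ _ fun _ => rfl

theorem J_comp_equiv_le {ι κ : Type*} [Fintype ι] [Fintype κ] [DecidableEq ι] [DecidableEq κ]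
    (x : ι → M) (e : κ ≃ ι) (k : ℕ) : J (R := R) x k ≤ J (x ∘ e) k := by
  refine Ideal.span_le.2 ?_
  rintro _ ⟨A, S, hS, hA, rfl⟩
  rw [← Matrix.det_submatrix_equiv_self e A]
  refine det_mem_J (S := S.map e.symm.toEmbedding) (by simpa using hS) fun i hi => ?_
  exact rel_comp_equiv x e (hA (e i) fun h => hi (by simpa using h))

theorem J_comp_equiv {ι κ : Type*} [Fintype ι] [Fintype κ] [DecidableEq ι] [DecidableEq κ]
    (x : ι → M) (e : κ ≃ ι) (k : ℕ) : J (R := R) (x ∘ e) k = J x k := by
  refine le_antisymm ?_ (J_comp_equiv_le x e k)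
  have := J_comp_equiv_le (R := R) (x ∘ e) e.symm k
  rwa [show (x ∘ e) ∘ e.symm = x by ext i; simp] at this

theorem det_mul_smul_eq_zero {ι : Type*} [Fintype ι] [DecidableEq ι] {x : ι → M} {A : Matrix ι ι R}
    {S : Finset ι} (h : ∀ i ∉ S, A i ∈ rel x) (j : ι) :
    A.det • x j = ∑ i ∈ S, A.adjugate j i • ∑ l, A i l • x l := by
  rw [Finset.sum_subset S.subset_univ fun i _ hi => by rw [mem_rel.1 (h i hi), smul_zero]]
  simp_rw [Finset.smul_sum, smul_smul]
  rw [Finset.sum_comm]
  simp_rw [← Finset.sum_smul]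
  have : ∀ l, ∑ i, A.adjugate j i * A i l = if j = l then A.det else 0 := fun l => by
    have := congrFun (congrFun (Matrix.adjugate_mul A) j) l
    rw [Matrix.mul_apply] at this
    rw [this, Matrix.smul_apply, Matrix.one_apply, smul_eq_mul, mul_boole]
  simp_rw [this, ite_smul, zero_smul]
  simp

/-- Appending a zero element. -/
theorem J_cons_zero {n : ℕ} (x : Fin n → M) (k : ℕ) :
    J (R := R) (Fin.cons (0 : M) x : Fin (n + 1) → M) k = J x k := by
  have hrel : ∀ v : Fin (n + 1) → R,
      v ∈ rel (Fin.cons (0 : M) x : Fin (n + 1) → M) ↔ (fun i : Fin n => v i.succ) ∈ rel x := by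
    intro v
    simp [mem_rel, Fin.sum_univ_succ]
  refine le_antisymm (Ideal.span_le.2 ?_) (Ideal.span_le.2 ?_)
  · rintro _ ⟨A, S, hS, hA, rfl⟩
    rw [Matrix.det_succ_column_zero]
    refine sum_mem fun i _ => Ideal.mul_mem_left _ _ ?_
    refine det_mem_J (S := Finset.univ.filter fun j => i.succAbove j ∈ S) ?_ fun j hj => ?_
    · refine le_trans (Finset.card_le_card_of_injOn i.succAbove (fun j hj => ?_)
        i.succAbove_right_injective.injOn) hS
      simpa using hj
    · exact (hrel _).1 (hA _ (by simpa using hj))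
  · rintro _ ⟨A, S, hS, hA, rfl⟩
    let B : Matrix (Fin (n + 1)) (Fin (n + 1)) R :=
      Fin.cons (Fin.cons 1 0) fun i => Fin.cons 0 (A i)
    have hB : B.det = A.det := by
      rw [Matrix.det_succ_column_zero, Finset.sum_eq_single 0]
      · have : B.submatrix (Fin.succAbove 0) Fin.succ = A := by
          ext i j
          change B (Fin.succ i) (Fin.succ j) = A i j
          simp [B]
        rw [this]
        simp [B]
      · intro i _ hi
        obtain ⟨j, rfl⟩ := Fin.exists_succ_eq.2 hi
        simp [B]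
      · simp
    rw [← hB]
    refine det_mem_J (S := S.map (Fin.succEmb n)) (by simpa using hS) fun i hi => ?_
    cases i using Fin.cases with
    | zero =>
      rw [hrel]
      simp [B, mem_rel]
    | succ i =>
      rw [hrel]
      simpa [B] using hA i (fun h => hi (by simpa using h))

/-- Changing the appended element by a combination of the others. -/
theorem J_cons_add_le {n : ℕ} (x : Fin n → M) (z : M) (c : Fin n → R) (k : ℕ) :
    J (R := R) (Fin.cons z x : Fin (n + 1) → M) k ≤
      J (Fin.cons (z - ∑ i, c i • x i) x : Fin (n + 1) → M) k := by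
  refine Ideal.span_le.2 ?_
  rintro _ ⟨A, S, hS, hA, rfl⟩
  let E : Matrix (Fin (n + 1)) (Fin (n + 1)) R :=
    Fin.cons (Fin.cons 1 c) fun i => Fin.cons 0 fun j => if i = j then 1 else 0
  have hE : E.det = 1 := by
    rw [Matrix.det_succ_column_zero, Finset.sum_eq_single 0]
    · have : E.submatrix (Fin.succAbove 0) Fin.succ = 1 := by
        ext i j
        change E (Fin.succ i) (Fin.succ j) = (1 : Matrix (Fin n) (Fin n) R) i j
        simp [E, Matrix.one_apply]
      rw [this]
      simp [E]
    · intro i _ hi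
      obtain ⟨j, rfl⟩ := Fin.exists_succ_eq.2 hi
      simp [E]
    · simp
  have hAE : (A * E).det = A.det := by rw [Matrix.det_mul, hE, mul_one]
  rw [← hAE]
  refine det_mem_J hS fun i hi => ?_
  have h := mem_rel.1 (hA i hi)
  rw [mem_rel]
  rw [Fin.sum_univ_succ] at h ⊢
  have h0 : (A * E) i 0 = A i 0 := by
    rw [Matrix.mul_apply, Fin.sum_univ_succ]
    simp [E]
  have h1 : ∀ j : Fin n, (A * E) i j.succ = A i 0 * c j + A i j.succ := by
    intro j
    rw [Matrix.mul_apply, Fin.sum_univ_succ]
    simp [E]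
  simp only [Fin.cons_zero, Fin.cons_succ, h0, h1, add_smul, Finset.sum_add_distrib, mul_smul,
    smul_sub, ← Finset.smul_sum] at h ⊢
  rw [← h]
  abel

theorem J_cons {n : ℕ} (x : Fin n → M) (hx : Submodule.span R (Set.range x) = ⊤) (z : M) (k : ℕ) :
    J (R := R) (Fin.cons z x : Fin (n + 1) → M) k = J x k := by
  obtain ⟨c, hc⟩ := (Submodule.mem_span_range_iff_exists_fun R).1 (hx.ge (Submodule.mem_top (x := z)))
  rw [← J_cons_zero x k]
  refine le_antisymm ?_ ?_
  · have := J_cons_add_le (R := R) x z c k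
    rwa [hc, sub_self] at this
  · have := J_cons_add_le (R := R) x 0 (-c) k
    simp only [Pi.neg_apply, neg_smul, Finset.sum_neg_distrib, zero_sub, neg_neg, hc] at this
    exact this

theorem J_append {n : ℕ} (x : Fin n → M) (hx : Submodule.span R (Set.range x) = ⊤) {m : ℕ}
    (y : Fin m → M) (k : ℕ) : J (R := R) (Fin.append y x) k = J x k := by
  induction m with
  | zero =>
    rw [Subsingleton.elim y Fin.elim0, Fin.elim0_append]
    exact J_comp_equiv x (finCongr (Nat.zero_add _)) k
  | succ m ih =>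
    have e : Fin.append y x =
        (Fin.cons (y 0) (Fin.append (Fin.tail y) x) : Fin (m + n + 1) → M) ∘
          finCongr (by omega) := by
      conv_lhs => rw [← Fin.cons_self_tail y, Fin.append_cons]
      rfl
    have hsp : Submodule.span R (Set.range (Fin.append (Fin.tail y) x)) = ⊤ := by
      rw [eq_top_iff, ← hx]
      refine Submodule.span_mono ?_
      rintro _ ⟨i, rfl⟩
      exact ⟨Fin.natAdd m i, Fin.append_right _ _ i⟩
    rw [e, J_comp_equiv, J_cons _ hsp, ih]

theorem J_eq_J {n m : ℕ} (x : Fin n → M) (y : Fin m → M)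
    (hx : Submodule.span R (Set.range x) = ⊤) (hy : Submodule.span R (Set.range y) = ⊤) (k : ℕ) :
    J (R := R) x k = J y k := by
  rw [← J_append x hx y, ← J_append y hy x]
  have : Fin.append y x = Fin.append x y ∘ finAddFlip := by
    ext i
    refine Fin.addCases (fun j => ?_) (fun j => ?_) i <;> simp
  rw [this, J_comp_equiv]

/-- The Fitting ideal of the prelude is computed by any generating tuple. -/
theorem ideal_eq_J_fin {n : ℕ} (x : Fin n → M) (hx : Submodule.span R (Set.range x) = ⊤) (k : ℕ) :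
    Fitt.ideal R M k = J x k := by
  refine le_antisymm (Ideal.span_le.2 ?_) (Ideal.span_le.2 ?_)
  · rintro _ ⟨m, y, a, hy, ha, rfl⟩
    rw [J_eq_J x y hx hy]
    refine det_mem_J (S := Finset.univ.filter fun i : Fin m => ¬ (i : ℕ) < m - k) ?_ fun i hi => ?_
    · refine le_trans (Finset.card_le_card_of_injOn (fun i : Fin m => (i : ℕ) - (m - k))
        (t := Finset.range k) (fun i hi => ?_) (fun i hi j hj h => ?_)) (Finset.card_range k).le
      · simp at hi ⊢; omega
      · simp at hi hj h; omega
    · exact mem_rel.2 (ha i (not_not.1 fun h => hi (Finset.mem_filter.2 ⟨Finset.mem_univ _, h⟩)))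
  · rintro _ ⟨A, S, hS, hA, rfl⟩
    refine Ideal.subset_span ?_
    have hc : Fintype.card {i // i ∉ S} + Fintype.card {i // i ∈ S} = n := by
      rw [add_comm, Fintype.card_subtype_compl, Nat.add_sub_cancel' (Fintype.card_subtype_le _),
        Fintype.card_fin]
    let σ : Fin n ≃ Fin n := (finCongr hc.symm).trans (finSumFinEquiv.symm.trans
      (((Equiv.sumCongr (Fintype.equivFin _).symm (Fintype.equivFin _).symm).trans
        (Equiv.sumComm _ _)).trans (Equiv.sumCompl fun i => i ∈ S)))
    refine ⟨n, x ∘ σ, A.submatrix σ σ, by rw [σ.surjective.range_comp]; exact hx, fun i hi => ?_,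
      (Matrix.det_submatrix_equiv_self σ A).symm⟩
    refine mem_rel.1 (rel_comp_equiv x σ (hA (σ i) ?_))
    have hlt : (i : ℕ) < Fintype.card {i // i ∉ S} := by
      simp only [Fintype.card_coe] at hc
      omega
    obtain ⟨j, hj⟩ : ∃ j, finSumFinEquiv.symm (finCongr hc.symm i) = Sum.inl j := by
      refine ⟨⟨i, hlt⟩, ?_⟩
      rw [Equiv.symm_apply_eq, finSumFinEquiv_apply_left]
      rfl
    simp only [σ, Equiv.trans_apply, hj, Equiv.sumCongr_apply, Sum.map_inl, Equiv.sumComm_apply,
      Sum.swap_inl, Equiv.sumCompl_apply_inr]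
    exact ((Fintype.equivFin {i // i ∉ S}).symm j).2

theorem ideal_eq_J {ι : Type*} [Fintype ι] [DecidableEq ι] (x : ι → M)
    (hx : Submodule.span R (Set.range x) = ⊤) (k : ℕ) : Fitt.ideal R M k = J x k := by
  rw [← J_comp_equiv x (Fintype.equivFin ι).symm, ideal_eq_J_fin]
  rw [(Fintype.equivFin ι).symm.surjective.range_comp]
  exact hx

theorem exists_generators [Module.Finite R M] :
    ∃ (n : ℕ) (x : Fin n → M), Submodule.span R (Set.range x) = ⊤ :=
  Module.Finite.exists_fin

/-- Multilinearity: rows may be restricted to spanning sets. -/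
theorem det_mem_of_rows_mem_span {ι : Type*} [Fintype ι] [DecidableEq ι] (T : ι → Set (ι → R))
    (I : Ideal R) (h : ∀ B : Matrix ι ι R, (∀ i, B i ∈ T i) → B.det ∈ I) (A : Matrix ι ι R)
    (hA : ∀ i, A i ∈ Submodule.span R (T i)) : A.det ∈ I := by
  suffices ∀ (s : Finset ι) (A : Matrix ι ι R), (∀ i ∉ s, A i ∈ T i) →
      (∀ i, A i ∈ Submodule.span R (T i)) → A.det ∈ I from
    this Finset.univ A (fun i hi => absurd (Finset.mem_univ i) hi) hA
  intro s
  induction s using Finset.induction with
  | empty => exact fun A h1 _ => h A fun i => h1 i (by simp)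
  | @insert a s ha ih =>
    intro A h1 h2
    have key : ∀ v ∈ Submodule.span R (T a), (A.updateRow a v).det ∈ I := by
      intro v hv
      induction hv using Submodule.span_induction with
      | mem v hv =>
        refine ih _ (fun i hi => ?_) fun i => ?_
        · by_cases hia : i = a
          · subst hia; rw [Matrix.updateRow_self]; exact hv
          · rw [Matrix.updateRow_ne hia]; exact h1 i (by simp [hia, hi])
        · by_cases hia : i = a
          · subst hia; rw [Matrix.updateRow_self]; exact Submodule.subset_span hv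
          · rw [Matrix.updateRow_ne hia]; exact h2 i
      | zero => rw [Matrix.det_eq_zero_of_row_eq_zero a (by simp)]; exact I.zero_mem
      | add u v _ _ hu hv => rw [Matrix.det_updateRow_add]; exact I.add_mem hu hv
      | smul c u _ hu => rw [Matrix.det_updateRow_smul]; exact I.mul_mem_left c hu
    simpa using key (A a) (h2 a)

/-- Unit vectors span everything. -/
theorem span_single_eq_top {ι : Type*} [Fintype ι] [DecidableEq ι] :
    Submodule.span R (Set.range fun i : ι => (Pi.single i 1 : ι → R)) = ⊤ := by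
  have := (Pi.basisFun R ι).span_eq
  rwa [show ⇑(Pi.basisFun R ι) = fun i : ι => (Pi.single i 1 : ι → R) from
    funext fun i => Pi.basisFun_apply R ι i] at this

/-- Membership test through spanning sets of the relations and unit vectors. -/
theorem J_le_of_forall {ι : Type*} [Fintype ι] [DecidableEq ι] {x : ι → M} {k : ℕ} {I : Ideal R}
    (T : Set (ι → R)) (hT : rel x ≤ Submodule.span R T)
    (h : ∀ (B : Matrix ι ι R) (S : Finset ι), S.card ≤ k → (∀ i ∉ S, B i ∈ T) →
      (∀ i ∈ S, ∃ j, B i = Pi.single j 1) → B.det ∈ I) :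
    J x k ≤ I := by
  refine Ideal.span_le.2 ?_
  rintro _ ⟨A, S, hS, hA, rfl⟩
  refine det_mem_of_rows_mem_span
    (fun i => if i ∈ S then Set.range (fun j => (Pi.single j 1 : ι → R)) else T) I
    (fun B hB => h B S hS (fun i hi => ?_) fun i hi => ?_) A fun i => ?_
  · simpa [hi] using hB i
  · have := hB i
    simp only [hi, if_true] at this
    obtain ⟨j, hj⟩ := this
    exact ⟨j, hj.symm⟩
  · by_cases hi : i ∈ S
    · simp only [hi, if_true]
      rw [span_single_eq_top]
      exact trivial
    · simp only [hi, if_false]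
      exact hT (hA i hi)

/-- A determinant with unit rows at `S` is a unit multiple of the complementary minor, or zero. -/
theorem det_eq_mul_minor {ι : Type*} [Fintype ι] [DecidableEq ι] (B : Matrix ι ι R) (S : Finset ι)
    (hB : ∀ i ∈ S, ∃ j, B i = Pi.single j 1) :
    B.det = 0 ∨ ∃ (c : R) (g : {i // i ∈ S} → ι) (e : {i // i ∉ S} → ι), IsUnit c ∧
      Function.Bijective (Sum.elim g e) ∧
      (∀ i : {i // i ∈ S}, B i = Pi.single (g i) 1) ∧
      B.det = c * (Matrix.of fun a b : {i // i ∉ S} => B a (e b)).det := by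
  choose g hg using hB
  let g' : {i // i ∈ S} → ι := fun i => g i.1 i.2
  by_cases hinj : Function.Injective g'
  · right
    have hcard : Fintype.card {i // i ∉ S} = Fintype.card {j : ι // j ∉ Set.range g'} := by
      have h1 : Fintype.card {i // i ∈ S} = Fintype.card {x // x ∈ Set.range g'} :=
        Fintype.card_congr (Equiv.ofInjective g' hinj)
      rw [Fintype.card_subtype_compl, Fintype.card_subtype_compl]
      omega
    let e0 := Fintype.equivOfCardEq hcard
    let σ : {i // i ∈ S} ⊕ {i // i ∉ S} ≃ ι :=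
      (Equiv.sumCongr (Equiv.ofInjective g' hinj) e0).trans (Equiv.sumCompl fun j => j ∈ Set.range g')
    let ρ : {i // i ∈ S} ⊕ {i // i ∉ S} ≃ ι := Equiv.sumCompl fun i => i ∈ S
    let C : Matrix _ _ R := B.submatrix ρ σ
    have hσl : ∀ i, σ (Sum.inl i) = g' i := fun i => rfl
    have hC : C = Matrix.fromBlocks 1 0
        (Matrix.of fun a b => B (a : {i // i ∉ S}).1 (σ (Sum.inl b)))
        (Matrix.of fun a b => B (a : {i // i ∉ S}).1 (σ (Sum.inr b))) := by
      ext a b
      rcases a with a | a <;> rcases b with b | b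
      · show B a.1 (g' b) = _
        rw [hg a.1 a.2, Matrix.fromBlocks_apply₁₁, Matrix.one_apply, Pi.single_apply]
        exact if_congr ⟨fun h => (hinj h).symm, fun h => h ▸ rfl⟩ rfl rfl
      · show B a.1 (e0 b).1 = _
        rw [hg a.1 a.2, Pi.single_apply, if_neg fun h => (e0 b).2 ⟨a, h.symm⟩]
        rfl
      · rfl
      · rfl
    let τ : Equiv.Perm ι := σ.symm.trans ρ
    have h1 : C = (B.submatrix τ id).submatrix σ σ := by
      ext a b
      simp [C, τ]
    have h2 : C.det = Equiv.Perm.sign τ * B.det := by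
      rw [h1, Matrix.det_submatrix_equiv_self, Matrix.det_permute]
    have h3 : C.det = (Matrix.of fun a b : {i // i ∉ S} => B a (e0 b).1).det := by
      rw [hC, Matrix.det_fromBlocks_zero₁₂, Matrix.det_one, one_mul]
      rfl
    have hu : IsUnit ((Equiv.Perm.sign τ : ℤ) : R) := (Equiv.Perm.sign τ).isUnit.map (Int.castRingHom R)
    obtain ⟨w, hw⟩ := hu
    refine ⟨↑w⁻¹, g', fun b => (e0 b).1, Units.isUnit _, ?_, fun i => hg i.1 i.2, ?_⟩
    · convert σ.bijective using 1
      ext (a | a) <;> rfl
    · rw [← h3, h2, ← hw, ← mul_assoc, Units.inv_mul, one_mul]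
  · left
    simp only [Function.Injective, not_forall] at hinj
    obtain ⟨a, b, hab, hne⟩ := hinj
    refine Matrix.det_zero_of_row_eq (i := a.1) (j := b.1) (fun h => hne (Subtype.ext h)) ?_
    rw [hg a.1 a.2, hg b.1 b.2]
    exact congrArg (fun j => Pi.single j (1 : R)) hab

end Groth.Agent.FittingLib
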